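import Mathlib
import Cfsg.Agent.H53.HC.WPerm
import Cfsg.Agent.H641.Gow.Rgd
import Cfsg.Agent.H650.GowChev

/-!
# The Weyl group of `F₄` (helper706, task 922 for S4913)

`K = {0, 2}`, `E = {0, 1, 2}`: `K` is permuted trivially (`fix_of_perm`), at most four elements fix `α₀` and `α₂`, of
which only `1` and `r` are in `W_E`; `w₁ ∉ W_E` fixes `α₀, α₁, α₂`.
-/

set_option autoImplicit false
set_option linter.unusedSectionVars false

namespace Cfsg.Agent.H706.Gow

open Cfsg CoxeterSystem Cfsg.Agent.ChevalleyStructure.CoxeterGeom Cfsg.Agent.Tits.Roots Cfsg.Agent.Tits.Core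
  Cfsg.Agent.Tits.Exchange Cfsg.Agent.Nodes.Reps Cfsg.Agent.Nodes.BNOf Cfsg.Agent.Nodes.StabComb
  Cfsg.Agent.H53.HC
open Cfsg.Lie Cfsg.Agent.ChevalleyStructure.CoxeterGeomTypes Cfsg.Agent.H650.GowChev

/-- the Cartan matrix -/
def row4 : Fin 4 → Fin 4 → ℤ := ![![2, -1, 0, 0], ![-1, 2, -2, 0], ![0, -1, 2, -1], ![0, 0, -1, 2]]

set_option backward.isDefEq.respectTransparency false in
theorem cartan_f4 : ∀ i j : Fin 4, cartanOf chevF4 4 i j = row4 i j := by
  decide +kernel

theorem cartan_f4' : cartanOf chevF4 4 = row4 := by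
  funext i j
  exact cartan_f4 i j

/-- the reflection -/
def rf4 (i : Fin 4) (x : Fin 4 → ℤ) : Fin 4 → ℤ := fun k => x k - if k = i then pairing row4 i x else 0

/-- the action of a word -/
def wact4 (ω : List (Fin 4)) (x : Fin 4 → ℤ) : Fin 4 → ℤ := ω.foldr rf4 x

section weyl

variable {W : Type*} [Group W] (cs : CoxeterSystem CoxeterMatrix.F₄ W)

theorem rep_simple_f4 (i : Fin 4) (x : Fin 4 → ℤ) : rep cs isType4.isCartan (cs.simple i) x = rf4 i x := by
  rw [rep_simple_eq]
  funext k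
  rw [Pi.sub_apply, Pi.smul_apply, smul_eq_mul, rf4, cartan_f4']
  by_cases hk : k = i
  · subst hk
    rw [sr_self, mul_one, if_pos rfl]
  · rw [sr_ne hk, mul_zero, if_neg hk]

theorem rep_word_f4 (ω : List (Fin 4)) (x : Fin 4 → ℤ) :
    rep cs isType4.isCartan (cs.wordProd ω) x = wact4 ω x := by
  induction ω with
  | nil => rw [wordProd_nil, map_one, Module.End.one_apply]; rfl
  | cons i ω ih =>
    rw [wordProd_cons, rep_mul_apply, ih, rep_simple_f4]
    rfl

/-- the sublattice spanned by `2 α₀`, `2 α₁`, `α₂`, `α₃` is invariant -/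
theorem even_rep (w : W) {x : Fin 4 → ℤ} (hx : Even (x 0) ∧ Even (x 1)) :
    Even (rep cs isType4.isCartan w x 0) ∧ Even (rep cs isType4.isCartan w x 1) := by
  obtain ⟨ω, rfl⟩ := cs.wordProd_surjective w
  rw [rep_word_f4]
  induction ω with
  | nil => exact hx
  | cons i ω ih =>
    obtain ⟨⟨a, ha⟩, ⟨b, hb⟩⟩ := ih
    change Even (rf4 i (wact4 ω x) 0) ∧ Even (rf4 i (wact4 ω x) 1)
    set y := wact4 ω x
    fin_cases i
    · refine ⟨⟨-a + b, ?_⟩, ⟨b, ?_⟩⟩
      · simp [rf4, pairing, row4, Fin.sum_univ_four]; omega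
      · simp [rf4]; omega
    · refine ⟨⟨a, ?_⟩, ⟨a - b + y 2, ?_⟩⟩
      · simp [rf4]; omega
      · simp [rf4, pairing, row4, Fin.sum_univ_four]; omega
    · refine ⟨⟨a, ?_⟩, ⟨b, ?_⟩⟩
      · simp [rf4]; omega
      · simp [rf4]; omega
    · refine ⟨⟨a, ?_⟩, ⟨b, ?_⟩⟩
      · simp [rf4]; omega
      · simp [rf4]; omega

theorem fix_of_perm {w : W} (hw : Perm cs isType4.isCartan ({0} ∪ {2}) w) :
    rep cs isType4.isCartan w (sr 0) = sr 0 ∧ rep cs isType4.isCartan w (sr 2) = sr 2 := by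
  obtain ⟨k, hk, e⟩ := hw.2 2 (Or.inr rfl)
  obtain ⟨j, hj, e'⟩ := hw.2 0 (Or.inl rfl)
  have h1 := (even_rep cs w (x := sr 2) ⟨by decide, by decide⟩).1
  rw [e] at h1
  have hk2 : k = 2 := by
    rcases hk with hk | hk
    · rw [Set.mem_singleton_iff] at hk
      subst hk
      exact absurd h1 (by decide)
    · exact hk
  subst hk2
  refine ⟨?_, e⟩
  rcases hj with hj | hj
  · rw [Set.mem_singleton_iff] at hj
    rw [e', hj]
  · rw [Set.mem_singleton_iff] at hj
    subst hj
    exfalso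
    have h2 : (sr 0 : Fin 4 → ℤ) = sr 2 := by
      have h3 := congrArg (rep cs isType4.isCartan w⁻¹) (e'.trans e.symm)
      rwa [rep_inv_apply, rep_inv_apply] at h3
    exact absurd (congrFun h2 0) (by decide)

/-- the conjugating word -/
def wordX : List (Fin 4) := [3, 1, 2, 0, 1, 2, 3, 2, 0, 1]

theorem mem_four {w : W} (hw : w ∈ WJ cs ({0, 2} : Set (Fin 4))) :
    w = 1 ∨ w = cs.simple 0 ∨ w = cs.simple 2 ∨ w = cs.simple 0 * cs.simple 2 := by
  have hcomm : cs.simple 0 * cs.simple 2 = cs.simple 2 * cs.simple 0 := by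
    have h1 := cs.simple_mul_simple_pow 0 2
    have h2 : (CoxeterMatrix.F₄ : CoxeterMatrix (Fin 4)) 0 2 = 2 := by decide
    rw [h2, pow_two] at h1
    have h3 : cs.simple 0 * cs.simple 2 = (cs.simple 0 * cs.simple 2)⁻¹ := eq_inv_of_mul_eq_one_left h1
    rw [mul_inv_rev, cs.inv_simple, cs.inv_simple] at h3
    exact h3
  have h0 : cs.simple 0 * cs.simple 0 = 1 := cs.simple_mul_simple_self 0
  have h2 : cs.simple 2 * cs.simple 2 = 1 := cs.simple_mul_simple_self 2
  have key : ∀ v : W, (v = 1 ∨ v = cs.simple 0 ∨ v = cs.simple 2 ∨ v = cs.simple 0 * cs.simple 2) →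
      ∀ s : W, (s = cs.simple 0 ∨ s = cs.simple 2) →
      (v * s = 1 ∨ v * s = cs.simple 0 ∨ v * s = cs.simple 2 ∨ v * s = cs.simple 0 * cs.simple 2) := by
    rintro v hv s (rfl | rfl)
    · rcases hv with rfl | rfl | rfl | rfl
      · exact Or.inr (Or.inl (one_mul _))
      · exact Or.inl h0
      · exact Or.inr (Or.inr (Or.inr hcomm.symm))
      · exact Or.inr (Or.inr (Or.inl (by rw [hcomm, mul_assoc, h0, mul_one])))
    · rcases hv with rfl | rfl | rfl | rfl
      · exact Or.inr (Or.inr (Or.inl (one_mul _)))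
      · exact Or.inr (Or.inr (Or.inr rfl))
      · exact Or.inl h2
      · exact Or.inr (Or.inl (by rw [mul_assoc, h2, mul_one]))
  unfold WJ at hw
  induction hw using Subgroup.closure_induction_right with
  | one => exact Or.inl rfl
  | mul_right v _ s hs ih =>
    refine key _ ih _ ?_
    obtain ⟨i, hi, rfl⟩ := hs
    rcases hi with rfl | hi
    · exact Or.inl rfl
    · rw [Set.mem_singleton_iff] at hi
      subst hi
      exact Or.inr rfl
  | mul_inv_cancel v _ s hs ih =>
    refine key _ ih _ ?_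
    obtain ⟨i, hi, rfl⟩ := hs
    rw [cs.inv_simple]
    rcases hi with rfl | hi
    · exact Or.inl rfl
    · rw [Set.mem_singleton_iff] at hi
      subst hi
      exact Or.inr rfl

theorem mem_two {w : W} (hw : w ∈ WJ cs ({1} : Set (Fin 4))) : w = 1 ∨ w = cs.simple 1 := by
  have h0 : cs.simple 1 * cs.simple 1 = 1 := cs.simple_mul_simple_self 1
  unfold WJ at hw
  rw [Set.image_singleton] at hw
  induction hw using Subgroup.closure_induction_right with
  | one => exact Or.inl rfl
  | mul_right v _ s hs ih =>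
    rw [Set.mem_singleton_iff] at hs
    subst hs
    rcases ih with rfl | rfl
    · exact Or.inr (one_mul _)
    · exact Or.inl h0
  | mul_inv_cancel v _ s hs ih =>
    rw [Set.mem_singleton_iff] at hs
    subst hs
    rw [cs.inv_simple]
    rcases ih with rfl | rfl
    · exact Or.inr (one_mul _)
    · exact Or.inl h0

/-- the pointwise stabiliser of `α₀`, `α₂` -/
def stab4 : Set W := {w | rep cs isType4.isCartan w (sr 0) = sr 0 ∧ rep cs isType4.isCartan w (sr 2) = sr 2}

theorem stab4_ncard [Finite W] : (stab4 cs).ncard ≤ 4 := by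
  classical
  set x := cs.wordProd wordX with hx
  have hsub : stab4 cs ⊆ (fun u => x⁻¹ * u * x) ''
      (({1, cs.simple 0, cs.simple 2, cs.simple 0 * cs.simple 2} : Finset W) : Set W) := by
    rintro w ⟨h0, h2⟩
    refine ⟨x * w * x⁻¹, ?_, by group⟩
    have hv : rep cs isType4.isCartan w (sr 0 + 2 • sr 2) = sr 0 + 2 • sr 2 := by
      rw [map_add, map_nsmul, h0, h2]
    have hxv : rep cs isType4.isCartan x (sr 0 + 2 • sr 2) = ![5, 10, 7, 4] := by
      rw [hx, rep_word_f4]
      decide +kernel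
    have hd : Dom (cartanOf chevF4 4) ![5, 10, 7, 4] := by
      rw [cartan_f4']
      unfold Dom
      decide +kernel
    have h3 : rep cs isType4.isCartan (x * w * x⁻¹) ![5, 10, 7, 4] = ![5, 10, 7, 4] := by
      conv_lhs => rw [← hxv]
      rw [rep_mul_apply, rep_mul_apply, rep_inv_apply, hv, hxv]
    have h4 := mem_WJ_of_rep (h := isType4.isCartan) hd h3
    have h5 : orth cs isType4.isCartan ![5, 10, 7, 4] ⊆ ({0, 2} : Set (Fin 4)) := by
      intro i hi
      rw [mem_orth, cartan_f4'] at hi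
      revert hi
      fin_cases i
      · intro _; exact Or.inl rfl
      · decide +kernel
      · intro _; exact Or.inr rfl
      · decide +kernel
    have h6 := mem_four cs (Subgroup.closure_mono (Set.image_mono h5) h4)
    simpa using h6
  refine (Set.ncard_le_ncard hsub (Set.toFinite _)).trans ((Set.ncard_image_le (Set.toFinite _)).trans ?_)
  rw [Set.ncard_coe_finset]
  exact Finset.card_le_four

/-- the reflection `r` -/
def wordY : List (Fin 4) := [2, 0, 1]

/-- the reflection `r` -/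
def wordR : List (Fin 4) := [1, 0, 2, 1, 2, 0, 1]

theorem word_mem {J : Set (Fin 4)} (ω : List (Fin 4)) (hω : ∀ i ∈ ω, i ∈ J) : cs.wordProd ω ∈ WJ cs J := by
  induction ω with
  | nil => rw [wordProd_nil]; exact one_mem _
  | cons i ω ih =>
    rw [wordProd_cons]
    exact mul_mem (simple_mem_WJ cs (hω i (List.mem_cons_self ..))) (ih fun j hj => hω j (List.mem_cons_of_mem _ hj))

theorem wordR_eq : cs.wordProd wordR = (cs.wordProd wordY)⁻¹ * cs.simple 1 * cs.wordProd wordY := by
  simp only [wordR, wordY, wordProd_cons, wordProd_nil, mul_one, mul_inv_rev, cs.inv_simple, mul_assoc]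

theorem wordR_mem : cs.wordProd wordR ∈ WJ cs ({0, 1, 2} : Set (Fin 4)) :=
  word_mem cs _ (by intro i hi; revert hi; fin_cases i <;> simp [wordR])

theorem wordR_zero : rep cs isType4.isCartan (cs.wordProd wordR) (sr 0) = sr 0 := by
  rw [rep_word_f4]; decide +kernel

theorem wordR_two : rep cs isType4.isCartan (cs.wordProd wordR) (sr 2) = sr 2 := by
  rw [rep_word_f4]; decide +kernel

theorem wordR_not_mem : cs.wordProd wordR ∉ WJ cs ({0, 2} : Set (Fin 4)) := by
  intro h1
  have h2 := Cfsg.Agent.H641.Gow.rep_WJ_apply (h := isType4.isCartan) h1 (sr 1) (k := 1) (by simp)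
  rw [rep_word_f4] at h2
  revert h2
  decide +kernel

theorem perm_of_fix {J : Set (Fin 4)} {w : W} (hw : ∀ i ∈ J, rep cs isType4.isCartan w (sr i) = sr i) :
    Perm cs isType4.isCartan J w := by
  refine ⟨fun i hi => ⟨i, hi, ?_⟩, fun i hi => ⟨i, hi, hw i hi⟩⟩
  conv_lhs => rw [← hw i hi]
  rw [rep_inv_apply]

/-- the elements of `W_E` -/
theorem mem_WE [Finite W] {w : W} (hw : w ∈ WJ cs ({0, 1, 2} : Set (Fin 4))) (h : w ∈ stab4 cs) :
    w = 1 ∨ w = cs.wordProd wordR := by
  obtain ⟨h0, h2⟩ := h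
  have hω : rep cs isType4.isCartan w ![2, 4, 3, 2] = ![2, 4, 3, 2] := by
    refine rep_of_mem_WJ_orth (Subgroup.closure_mono (Set.image_mono fun i hi => ?_) hw)
    rw [mem_orth, cartan_f4']
    rcases hi with rfl | rfl | hi
    · decide +kernel
    · decide +kernel
    · rw [Set.mem_singleton_iff] at hi
      subst hi
      decide +kernel
  set y := cs.wordProd wordY with hy
  have hu : rep cs isType4.isCartan w (sr 0 + sr 2 + 3 • ![2, 4, 3, 2]) = sr 0 + sr 2 + 3 • ![2, 4, 3, 2] := by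
    rw [map_add, map_add, map_nsmul, h0, h2, hω]
  have hyv : rep cs isType4.isCartan y (sr 0 + sr 2 + 3 • ![2, 4, 3, 2]) = ![8, 15, 11, 6] := by
    rw [hy, rep_word_f4]
    decide +kernel
  have hd : Dom (cartanOf chevF4 4) ![8, 15, 11, 6] := by
    rw [cartan_f4']
    unfold Dom
    decide +kernel
  have h3 : rep cs isType4.isCartan (y * w * y⁻¹) ![8, 15, 11, 6] = ![8, 15, 11, 6] := by
    conv_lhs => rw [← hyv]
    rw [rep_mul_apply, rep_mul_apply, rep_inv_apply, hu, hyv]
  have h4 := mem_WJ_of_rep (h := isType4.isCartan) hd h3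
  have h5 : orth cs isType4.isCartan ![8, 15, 11, 6] ⊆ ({1} : Set (Fin 4)) := by
    intro i hi
    rw [mem_orth, cartan_f4'] at hi
    revert hi
    fin_cases i
    · decide +kernel
    · intro _; rfl
    · decide +kernel
    · decide +kernel
  rcases mem_two cs (Subgroup.closure_mono (Set.image_mono h5) h4) with h6 | h6
  · left
    have h7 : w = y⁻¹ * (y * w * y⁻¹) * y := by group
    rw [h7, h6]; group
  · right
    have h7 : w = y⁻¹ * (y * w * y⁻¹) * y := by group
    rw [h7, h6, wordR_eq]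

/-- the word of `w₁` -/
def wordW : List (Fin 4) := [3, 2, 1, 2, 0, 1, 2, 3, 2, 1, 2, 0, 1, 2, 3]

theorem wordW_fix : ∀ i ∈ ({0, 1, 2} : Set (Fin 4)), rep cs isType4.isCartan (cs.wordProd wordW) (sr i) = sr i := by
  intro i hi
  rw [rep_word_f4]
  rcases hi with rfl | rfl | hi
  · decide +kernel
  · decide +kernel
  · rw [Set.mem_singleton_iff] at hi
    subst hi
    decide +kernel

theorem wordW_not_mem : cs.wordProd wordW ∉ WJ cs ({0, 1, 2} : Set (Fin 4)) := by
  intro h1
  have h2 := Cfsg.Agent.H641.Gow.rep_WJ_apply (h := isType4.isCartan) h1 (sr 3) (k := 3) (by simp)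
  rw [rep_word_f4] at h2
  revert h2
  decide +kernel

end weyl

end Cfsg.Agent.H706.Gow
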