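import Cfsg.Agent.H706.Gow.TwoNodes
import Cfsg.Agent.H706.Gow.CombF4

/-!
# S4913: the groups `F₄(q)`, `q` even (helper706, task 922)
-/

set_option autoImplicit false

namespace Cfsg.Agent.H706.Gow

open CoxeterSystem Cfsg.Agent.ChevalleyStructure.CoxeterGeom Cfsg.Agent.Tits.Roots Cfsg.Agent.Tits.Core
  Cfsg.Agent.Nodes.Reps Cfsg.Agent.Nodes.BNOf
  Cfsg.Agent.H627.Gow Cfsg.Agent.H53.HC Cfsg.Agent.H636.Gow Cfsg.Agent.H636.Gow.CuspSL
  Cfsg.Agent.Nodes.RGDChev Cfsg.Agent.H650.GowChev Cfsg.Agent.H497.Gow Cfsg.Agent.BpExc.TorChev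
  Cfsg.Agent.KFacts.RgdChevCoord Cfsg.Agent.KFacts.RgdField
open Cfsg.Lie Cfsg.Agent.ChevalleyStructure.CoxeterGeomTypes
open scoped MatrixGroups

theorem orth_f4 : Orth (cartanOf chevF4 4) {0} {2} := by
  intro i hi j hj
  rw [Set.mem_singleton_iff] at hi hj
  subst hi hj
  rw [cartan_f4']
  decide +kernel

/-- **`F₄(q)`, `q` even.** -/
theorem f_four (F : Type*) [Field F] [Fintype F] [CharP F 2] : RatOdd ↥(chevF4.group F) := by
  classical
  by_cases h3 : 3 ∣ Fintype.card F - 1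
  · exact ratOdd_one_mod h3 chevF4 (by simp)
  · have hp := isType4
    have : Fact (Nat.Prime 2) := ⟨Nat.prime_two⟩
    let cs : CoxeterSystem CoxeterMatrix.F₄ CoxeterMatrix.F₄.Group := CoxeterMatrix.F₄.toCoxeterSystem
    have := finite_W hp cs
    have R := rgd (K := F) hp cs 2
    have hG := GG_top hp cs (K := F)
    have : Fintype ↥(chevF4.group F) := Fintype.ofFinite _
    obtain ⟨φ₁, N₁, a₁⟩ := exists_node_act (K := F) hp cs 0
    obtain ⟨φ₂, N₂, a₂⟩ := exists_node_act (K := F) hp cs 2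
    have N := TwoN.mk' R N₁ N₂ orth_f4
    obtain ⟨χ, hχ⟩ := exists_cuspTwo F (by rw [Nat.card_eq_fintype_card]; exact h3)
    have ho : Orth (cartanOf chevF4 4) ({0} ∪ {2}) ∅ := fun i _ j hj => absurd hj (Set.notMem_empty j)
    obtain ⟨c, hc⟩ := exists_ret R ho N.cen (N.inner (torus_inner hp cs 0) (torus_inner hp cs 2))
    obtain ⟨d, hd, hd1⟩ := N.theta_one hχ
    obtain ⟨gr, hgr⟩ := exists_rp cs R.nsys (cs.wordProd wordR)
    obtain ⟨g₁, hg₁⟩ := exists_rp cs R.nsys (cs.wordProd wordW)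
    have hKE : (({0} ∪ {2}) ∪ ∅ : Set (Fin 4)) ⊆ {0, 1, 2} := by
      intro i hi
      simp only [Set.union_empty, Set.mem_union, Set.mem_singleton_iff, Set.mem_insert_iff] at hi ⊢
      tauto
    have hKK : (({0} ∪ {2}) ∪ ∅ : Set (Fin 4)) = {0, 2} := by
      rw [Set.union_empty]; rfl
    have fixR : ∀ i ∈ ({0} ∪ {2} : Set (Fin 4)), rep cs isType4.isCartan (cs.wordProd wordR) (sr i) = sr i := by
      rintro i (hi | hi)
      · rw [Set.mem_singleton_iff.1 hi]; exact wordR_zero cs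
      · rw [Set.mem_singleton_iff.1 hi]; exact wordR_two cs
    have w0 := wordW_fix cs 0 (by simp)
    have w2 := wordW_fix cs 2 (by simp)
    refine ratOdd_of_ret_four (E := {0, 1, 2}) R hG ho hc N.cen ⟨0, Or.inl rfl⟩ (N.theta_irr hχ.irr) (N.theta_van hχ)
      (N.theta_rat hχ) hd hd1 ?_ hKE (wordR_mem cs) (hKK ▸ wordR_not_mem cs) (perm_of_fix cs fixR) hgr
      (fun m hm => N.theta_inv hχ a₁ a₂ hgr (wordR_zero cs) (wordR_two cs) m hm _) ?_ (wordW_not_mem cs)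
      (perm_of_fix cs (wordW_fix cs)) (perm_of_fix cs fun i hi => wordW_fix cs i (hKE hi))
      (perm_of_fix cs fun i hi => wordW_fix cs i (hKE (Or.inl hi))) hg₁
      (fun m hm => N.theta_inv hχ a₁ a₂ hg₁ w0 w2 m hm _)
    · refine le_trans (Set.ncard_le_ncard ?_ (Set.toFinite _)) (stab4_ncard cs)
      rintro w ⟨-, hw, -⟩
      exact fix_of_perm cs hw
    · intro w hw _ hw'
      exact mem_WE cs hw (fix_of_perm cs hw')

end Cfsg.Agent.H706.Gow
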